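import Groth.Prelude.Def_NonAbH1
import Mathlib.CategoryTheory.Sites.Point.Basic
import Mathlib.CategoryTheory.Sites.Types
import Mathlib.CategoryTheory.Sites.Over

/-!
The Godement sheaf of groups of a family of points of a site; its torsors are trivial.
-/

set_option autoImplicit false
set_option backward.isDefEq.respectTransparency false
set_option backward.isDefEq.respectTransparency.types false

universe v' u' w' w

open CategoryTheory CategoryTheory.Limits Opposite

namespace Groth.Agent.GodementLib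

variable {C : Type u'} [Category.{v'} C] {J : GrothendieckTopology C}

/-- Two elements over a common one in the fibre functor of a point are refined by one element. -/
theorem exists_refine (Φ : GrothendieckTopology.Point.{w'} J) {U V W : C} (f : V ⟶ U) (g : W ⟶ U)
    (y : Φ.fiber.obj V) (z : Φ.fiber.obj W) (h : Φ.fiber.map f y = Φ.fiber.map g z) :
    ∃ (T : C) (a : T ⟶ V) (b : T ⟶ W) (t : Φ.fiber.obj T),
      a ≫ f = b ≫ g ∧ Φ.fiber.map a t = y ∧ Φ.fiber.map b t = z := by
  let eU := Φ.fiber.elementsMk U (Φ.fiber.map f y)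
  let eV := Φ.fiber.elementsMk V y
  let eW := Φ.fiber.elementsMk W z
  let p : eV ⟶ eU := CategoryOfElements.homMk _ _ f rfl
  let q : eW ⟶ eU := CategoryOfElements.homMk _ _ g h.symm
  obtain ⟨T₀, p', q', hpq⟩ := IsCofiltered.cospan p q
  exact ⟨T₀.1, p'.1, q'.1, T₀.2, congrArg Subtype.val hpq, p'.2, q'.2⟩

variable {ι : Type w'} (Φ : ι → GrothendieckTopology.Point.{w'} J) (M : ι → GrpCat.{max w w'})

/-- The product of the skyscraper sheaves, as a presheaf. -/
def godPre : Cᵒᵖ ⥤ GrpCat.{max w w'} where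
  obj U := GrpCat.of (∀ i, (Φ i).fiber.obj U.unop → M i)
  map f := GrpCat.ofHom
    { toFun := fun g i y => g i ((Φ i).fiber.map f.unop y)
      map_one' := rfl
      map_mul' := fun _ _ => rfl }
  map_id U := GrpCat.ext fun g => by funext i y; simp
  map_comp f f' := GrpCat.ext fun g => by funext i y; simp

@[simp] theorem godPre_map {U V : Cᵒᵖ} (f : U ⟶ V) (g : (godPre Φ M).obj U) (i : ι)
    (y : (Φ i).fiber.obj V.unop) : ((godPre Φ M).map f g) i y = g i ((Φ i).fiber.map f.unop y) := rfl

theorem godPre_isSheaf : Presheaf.IsSheaf J (godPre Φ M) := by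
  intro E U R hR x hx
  choose Y f hf y hy using fun (i : ι) (z : (Φ i).fiber.obj U) => (Φ i).jointly_surjective R hR z
  let g : E ⟶ (godPre Φ M).obj (op U) := GrpCat.ofHom
    { toFun := fun a i z => (x (f i z) (hf i z)).hom a i (y i z)
      map_one' := by funext i z; exact congrFun (congrFun (map_one (x (f i z) (hf i z)).hom) i) (y i z)
      map_mul' := fun a b => by
        funext i z; exact congrFun (congrFun (map_mul (x (f i z) (hf i z)).hom a b) i) (y i z) }
  refine ⟨g, fun V e he => ?_, fun g' hg' => ?_⟩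
  · refine GrpCat.ext fun a => ?_
    funext i v
    change (x (f i ((Φ i).fiber.map e v)) _).hom a i _ = _
    obtain ⟨T, p, q, t, hpq, hp, hq⟩ := exists_refine (Φ i) (f i ((Φ i).fiber.map e v)) e
      (y i ((Φ i).fiber.map e v)) v (hy i _)
    have := congrFun (congrFun (ConcreteCategory.congr_hom (hx p q (hf i _) he hpq) a) i) t
    change (x _ _).hom a i ((Φ i).fiber.map p t) = (x e he).hom a i ((Φ i).fiber.map q t) at this
    rw [hp, hq] at this
    exact this
  · refine GrpCat.ext fun a => ?_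
    funext i z
    have := congrFun (congrFun (ConcreteCategory.congr_hom (hg' (f i z) (hf i z)) a) i) (y i z)
    change g'.hom a i ((Φ i).fiber.map (f i z) (y i z)) = _ at this
    rw [hy] at this
    exact this

/-- The product of the skyscraper sheaves of a family of points. -/
def god : Sheaf J GrpCat.{max w w'} := ⟨godPre Φ M, godPre_isSheaf Φ M⟩

variable (F : Sheaf J GrpCat.{max w w'}) (germ : ∀ (i : ι) (U : C), (Φ i).fiber.obj U → (F.obj.obj (op U) ⟶ M i))
  (hgerm : ∀ (i : ι) ⦃U V : C⦄ (f : V ⟶ U) (y : (Φ i).fiber.obj V),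
    F.obj.map f.op ≫ germ i V y = germ i U ((Φ i).fiber.map f y))

/-- The map to the Godement sheaf given by germs. -/
def toGod : F ⟶ god Φ M :=
  ⟨{ app := fun U => GrpCat.ofHom
      { toFun := fun a i z => germ i U.unop z a
        map_one' := by funext i z; exact map_one (germ i U.unop z).hom
        map_mul' := fun a b => by funext i z; exact map_mul (germ i U.unop z).hom a b }
     naturality := fun U V f => by
      ext a
      funext i z
      exact ConcreteCategory.congr_hom (hgerm i f.unop z) a }⟩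

variable {U : C} (P : NonAbH1.GSheaf ((god Φ M).over U))

/-- A section is normalised if it differs from the chosen local sections by elements with trivial components. -/
def IsNormal (base : ∀ (i : ι), (Φ i).fiber.obj U → Σ V : Over U, P.P.obj.obj (op V))
    (pt : ∀ (i : ι) (x : (Φ i).fiber.obj U), (Φ i).fiber.obj (base i x).1.left)
    (W : Over U) (q : P.P.obj.obj (op W)) : Prop :=
  ∀ (i : ι) (T : Over U) (a : T ⟶ W) (t : (Φ i).fiber.obj T.left) (x : (Φ i).fiber.obj U)
    (b : T ⟶ (base i x).1), (Φ i).fiber.map T.hom t = x → (Φ i).fiber.map b.left t = pt i x →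
    ∀ g : ((god Φ M).over U).obj.obj (op T), P.smul g (P.P.obj.map b.op (base i x).2) = P.P.obj.map a.op q → g i t = 1

theorem hasSection_of_torsor (hP : P.IsTorsor) : P.HasSection := by
  obtain ⟨hps, hloc⟩ := hP
  obtain ⟨S₀, hS₀, hS₀'⟩ := hloc (Over.mk (𝟙 U))
  have hS₁ : Sieve.overEquiv (Over.mk (𝟙 U)) S₀ ∈ J U := (J.mem_over_iff S₀).1 hS₀
  choose Y f hf pt hpt using fun (i : ι) (x : (Φ i).fiber.obj U) =>
    (Φ i).jointly_surjective (Sieve.overEquiv (Over.mk (𝟙 U)) S₀) hS₁ x
  have hne : ∀ (i : ι) (x : (Φ i).fiber.obj U), Nonempty (P.P.obj.obj (op (Over.mk (f i x)))) := fun i x => by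
    refine hS₀' (Over.homMk (f i x) (by simp) : Over.mk (f i x) ⟶ Over.mk (𝟙 U)) ?_
    have := (Sieve.overEquiv_iff (Y := Over.mk (𝟙 U)) S₀ (f i x)).1 (hf i x)
    convert this using 2 <;> simp
  let base : ∀ (i : ι), (Φ i).fiber.obj U → Σ V : Over U, P.P.obj.obj (op V) :=
    fun i x => ⟨Over.mk (f i x), Classical.choice (hne i x)⟩
  -- common refinements with the base
  have href : ∀ (i : ι) (W : Over U) (z : (Φ i).fiber.obj W.left), ∃ (T : Over U) (a : T ⟶ W)
      (b : T ⟶ (base i ((Φ i).fiber.map W.hom z)).1) (t : (Φ i).fiber.obj T.left),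
      (Φ i).fiber.map a.left t = z ∧ (Φ i).fiber.map b.left t = pt i ((Φ i).fiber.map W.hom z) := fun i W z => by
    obtain ⟨T, a, b, t, hab, ha, hb⟩ := exists_refine (Φ i) W.hom (f i ((Φ i).fiber.map W.hom z)) z
      (pt i _) (hpt i _).symm
    exact ⟨Over.mk (a ≫ W.hom), Over.homMk a rfl, Over.homMk b hab.symm, t, ha, hb⟩
  -- two elements of a fibre over the base
  have hindep : ∀ (i : ι) (W : Over U) (q : P.P.obj.obj (op W)) (x : (Φ i).fiber.obj U) (T T' : Over U)
      (a : T ⟶ W) (b : T ⟶ (base i x).1) (a' : T' ⟶ W) (b' : T' ⟶ (base i x).1)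
      (t : (Φ i).fiber.obj T.left) (t' : (Φ i).fiber.obj T'.left),
      (Φ i).fiber.map a.left t = (Φ i).fiber.map a'.left t' →
      (Φ i).fiber.map b.left t = (Φ i).fiber.map b'.left t' →
      ∀ (g : (godPre Φ M).obj (op T.left)) (g' : (godPre Φ M).obj (op T'.left)),
      P.smul g (P.P.obj.map b.op (base i x).2) = P.P.obj.map a.op q →
      P.smul g' (P.P.obj.map b'.op (base i x).2) = P.P.obj.map a'.op q → g i t = g' i t' := by
    intro i W q x T T' a b a' b' t t' hta htb g g' hg hg'
    have h0 : (Φ i).fiber.map T.hom t = (Φ i).fiber.map T'.hom t' := by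
      rw [← Over.w a, ← Over.w a', Functor.map_comp, Functor.map_comp]
      exact congrArg ((Φ i).fiber.map W.hom) hta
    obtain ⟨T₁, c, c', t₁, hcc, hc, hc'⟩ := exists_refine (Φ i) T.hom T'.hom t t' h0
    let e₁ := (Φ i).fiber.elementsMk T₁ t₁
    let eW := (Φ i).fiber.elementsMk W.left ((Φ i).fiber.map a.left t)
    let eB := (Φ i).fiber.elementsMk (base i x).1.left ((Φ i).fiber.map b.left t)
    let p₁ : e₁ ⟶ eW := CategoryOfElements.homMk _ _ (c ≫ a.left) (by simp [e₁, eW, hc])
    let p₂ : e₁ ⟶ eW := CategoryOfElements.homMk _ _ (c' ≫ a'.left) (by simp [e₁, eW, hc', hta])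
    let q₁ : IsCofiltered.eq p₁ p₂ ⟶ eB :=
      IsCofiltered.eqHom p₁ p₂ ≫ CategoryOfElements.homMk _ _ (c ≫ b.left) (by simp [e₁, eB, hc])
    let q₂ : IsCofiltered.eq p₁ p₂ ⟶ eB :=
      IsCofiltered.eqHom p₁ p₂ ≫ CategoryOfElements.homMk _ _ (c' ≫ b'.left) (by simp [e₁, eB, hc', htb])
    let E := IsCofiltered.eq q₁ q₂
    let ε := IsCofiltered.eqHom q₁ q₂ ≫ IsCofiltered.eqHom p₁ p₂
    have hεt : (Φ i).fiber.map ε.1 E.2 = t₁ := ε.2
    have hA : ε.1 ≫ c ≫ a.left = ε.1 ≫ c' ≫ a'.left := by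
      have := congrArg (fun k => (IsCofiltered.eqHom q₁ q₂ ≫ k).1) (IsCofiltered.eq_condition p₁ p₂)
      simpa [ε, p₁, p₂] using this
    have hB : ε.1 ≫ c ≫ b.left = ε.1 ≫ c' ≫ b'.left := by
      have := congrArg Subtype.val (IsCofiltered.eq_condition q₁ q₂)
      simpa [ε, q₁, q₂] using this
    let T₂ : Over U := Over.mk (ε.1 ≫ c ≫ T.hom)
    let k : T₂ ⟶ T := Over.homMk (ε.1 ≫ c) (by simp [T₂])
    let k' : T₂ ⟶ T' := Over.homMk (ε.1 ≫ c') (by simp [T₂, hcc])
    have ha2 : k ≫ a = k' ≫ a' := Over.OverMorphism.ext (by simpa [k, k'] using hA)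
    have hb2 : k ≫ b = k' ≫ b' := Over.OverMorphism.ext (by simpa [k, k'] using hB)
    have e1 : P.smul (((god Φ M).over U).obj.map k.op g) (P.P.obj.map (k ≫ b).op (base i x).2) =
        P.P.obj.map (k ≫ a).op q := by
      have := congrArg (P.P.obj.map k.op) hg
      rw [P.map_smul, ← Functor.map_comp_apply, ← Functor.map_comp_apply] at this
      exact this
    have e2 : P.smul (((god Φ M).over U).obj.map k'.op g') (P.P.obj.map (k' ≫ b').op (base i x).2) =
        P.P.obj.map (k' ≫ a').op q := by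
      have := congrArg (P.P.obj.map k'.op) hg'
      rw [P.map_smul, ← Functor.map_comp_apply, ← Functor.map_comp_apply] at this
      exact this
    rw [← ha2, ← hb2] at e2
    obtain ⟨g₀, -, hu⟩ := hps (op T₂) (P.P.obj.map (k ≫ b).op (base i x).2) (P.P.obj.map (k ≫ a).op q)
    have := congrFun (congrFun ((hu _ e1).trans (hu _ e2).symm) i) E.2
    change g i ((Φ i).fiber.map (ε.1 ≫ c) E.2) = g' i ((Φ i).fiber.map (ε.1 ≫ c') E.2) at this
    simp only [Functor.map_comp, types_comp_apply, hεt] at this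
    erw [hc, hc'] at this
    exact this
  -- uniqueness of normalised sections
  have huniq : ∀ (W : Over U) (q q' : P.P.obj.obj (op W)), IsNormal Φ M P base pt W q →
      IsNormal Φ M P base pt W q' → q = q' := by
    intro W q q' hq hq'
    obtain ⟨h, hh, -⟩ := hps (op W) q q'
    suffices h = 1 by rw [← hh, this, P.one_smul]
    funext i z
    obtain ⟨T, a, b, t, ha, hb⟩ := href i W z
    obtain ⟨g, hg, -⟩ := hps (op T) (P.P.obj.map b.op (base i _).2) (P.P.obj.map a.op q)
    have hT : (Φ i).fiber.map T.hom t = (Φ i).fiber.map W.hom z := by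
      rw [← Over.w a, Functor.map_comp]
      exact congrArg ((Φ i).fiber.map W.hom) ha
    have h1 := hq i T a t _ b hT hb g hg
    have hg' : P.smul ((((god Φ M).over U).obj.map a.op h) * g) (P.P.obj.map b.op (base i _).2) =
        P.P.obj.map a.op q' := by rw [P.mul_smul, hg, ← hh, P.map_smul]
    have h2 := hq' i T a t _ b hT hb _ hg'
    change h i ((Φ i).fiber.map a.left t) * g i t = 1 at h2
    rwa [ha, h1, mul_one] at h2
  have hrestr : ∀ (W W' : Over U) (e : W' ⟶ W) (q : P.P.obj.obj (op W)), IsNormal Φ M P base pt W q →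
      IsNormal Φ M P base pt W' (P.P.obj.map e.op q) := by
    intro W W' e q hq i T a t x b hT hb g hg
    refine hq i T (a ≫ e) t x b hT hb g ?_
    rw [hg, ← Functor.map_comp_apply, ← op_comp]
  -- normalisation
  have hex : ∀ (W : Over U), Nonempty (P.P.obj.obj (op W)) → ∃ q, IsNormal Φ M P base pt W q := by
    rintro W ⟨q₀⟩
    choose T a b t ha hb using fun (i : ι) (z : (Φ i).fiber.obj W.left) => href i W z
    choose g hg using fun (i : ι) (z : (Φ i).fiber.obj W.left) =>
      (hps (op (T i z)) (P.P.obj.map (b i z).op (base i _).2) (P.P.obj.map (a i z).op q₀)).exists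
    let h : (godPre Φ M).obj (op W.left) := fun i z => (g i z i (t i z))⁻¹
    refine ⟨P.smul h q₀, fun i T' a' t' x b' hT' hb' g' hg' => ?_⟩
    let z := (Φ i).fiber.map a'.left t'
    have hx : x = (Φ i).fiber.map W.hom z := by
      rw [← hT', ← Over.w a', Functor.map_comp]
      rfl
    subst hx
    have hg'' : P.smul ((((god Φ M).over U).obj.map a'.op h)⁻¹ * (g' : ((god Φ M).over U).obj.obj (op T'))) (P.P.obj.map b'.op (base i _).2) =
        P.P.obj.map a'.op q₀ := by
      rw [P.mul_smul, hg', P.map_smul, ← P.mul_smul, inv_mul_cancel, P.one_smul]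
    have key := hindep i W q₀ _ (T i z) T' (a i z) (b i z) a' b' (t i z) t' (ha i z)
      ((hb i z).trans hb'.symm) (g i z) _ (hg i z) hg''
    change g i z i (t i z) = ((g i z i (t i z))⁻¹)⁻¹ * g' i t' at key
    rw [inv_inv] at key
    exact mul_left_cancel (key.symm.trans (mul_one _).symm)
  -- gluing
  have hsh : Presieve.IsSheaf (J.over U) P.P.obj := (isSheaf_iff_isSheaf_of_type _ _).1 P.P.property
  choose qf hqf using fun (V : Over U) (e : V ⟶ Over.mk (𝟙 U)) (he : S₀ e) => hex V (hS₀' e he)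
  obtain ⟨s, hs, -⟩ := hsh S₀ hS₀ (fun V e he => qf V e he) (by
    intro V₁ V₂ Z g₁ g₂ e₁ e₂ h₁ h₂ hcomm
    exact huniq _ _ _ (hrestr _ _ g₁ _ (hqf _ _ _)) (hrestr _ _ g₂ _ (hqf _ _ _)))
  refine ⟨fun W => P.P.obj.map (Over.homMk W.unop.hom (Category.comp_id _) : W.unop ⟶ Over.mk (𝟙 U)).op s, ?_⟩
  intro W W' e
  rw [← Functor.map_comp_apply]
  refine congrArg (fun k => P.P.obj.map k s) (Quiver.Hom.unop_inj (Over.OverMorphism.ext ?_))
  exact Over.w e.unop

/-- A sheaf with a torsor structure and a global section is trivial. -/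
theorem isTrivial_of_hasSection {D : Type*} [Category D] {K : GrothendieckTopology D}
    {G : Sheaf K GrpCat.{w}} [K.HasSheafCompose (forget GrpCat.{w})] (Q : NonAbH1.GSheaf G)
    (hQ : Q.IsPseudoTorsor) (hs : Q.HasSection) : Q.IsTrivial := by
  obtain ⟨s, hs⟩ := hs
  let e : (NonAbH1.GSheaf.trivial G).P ⟶ Q.P := ⟨
    { app := fun V => TypeCat.ofHom fun g => Q.smul (NonAbH1.GSheaf.toGrp g) (s V)
      naturality := fun V V' f => by
        ext g
        change Q.smul (G.obj.map f (NonAbH1.GSheaf.toGrp g)) (s V') = Q.P.obj.map f (Q.smul _ (s V))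
        rw [Q.map_smul, hs f] }⟩
  let eH : NonAbH1.GSheaf.trivial G ⟶ Q := ⟨e, fun g p => Q.mul_smul g (NonAbH1.GSheaf.toGrp p) _⟩
  haveI : IsIso e.hom := by
    have : ∀ V, IsIso (e.hom.app V) := fun V => by
      rw [isIso_iff_bijective]
      exact ⟨fun g g' h => (hQ V (s V) _).unique h rfl, fun q => (hQ V (s V) q).exists⟩
    exact NatIso.isIso_of_isIso_app _
  haveI : IsIso e :=
    (isIso_iff_of_reflects_iso e (sheafToPresheaf K _)).1 (inferInstanceAs (IsIso e.hom))
  have hinv : ∀ (V : Dᵒᵖ) (g : G.obj.obj V) (q : Q.P.obj.obj V),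
      (inv e).hom.app V (Q.smul g q) = (NonAbH1.GSheaf.trivial G).smul g ((inv e).hom.app V q) := by
    intro V g q
    obtain ⟨a, rfl⟩ : ∃ a, e.hom.app V a = q := (hQ V (s V) q).exists
    have hie : ∀ a, (inv e).hom.app V (e.hom.app V a) = a := fun a =>
      ConcreteCategory.congr_hom (congrArg (fun m : (NonAbH1.GSheaf.trivial G).P ⟶ (NonAbH1.GSheaf.trivial G).P => m.hom.app V) (IsIso.hom_inv_id e)) a
    rw [hie, ← eH.map_smul]
    exact hie _
  exact ⟨{ hom := eH
           inv := ⟨inv e, fun g q => hinv _ g q⟩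
           hom_inv_id := NonAbH1.GSheaf.hom_ext (IsIso.hom_inv_id e)
           inv_hom_id := NonAbH1.GSheaf.hom_ext (IsIso.inv_hom_id e) }⟩

end Groth.Agent.GodementLib
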